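import Groth.Agent.GeomPtInt5.Inv
import Groth.Agent.GeomRedFlat5.Open
import Groth.Agent.FibreLoc5.Constr
import Groth.Agent.S0419
import Groth.Agent.S4664
import Groth.Agent.S2500
import Groth.Agent.H23.FinCondSch

/-!
# Geometric pointwise integrality along a section over an integral base
-/

set_option autoImplicit false
set_option linter.style.haveILetI false
set_option backward.isDefEq.respectTransparency false
set_option backward.isDefEq.respectTransparency.types false

universe u

open CategoryTheory Limits AlgebraicGeometry TopologicalSpace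

namespace Groth.Agent.GeomPtInt5

/-- A point of an irreducible open subset lies in one irreducible component. -/
theorem eq_of_mem_irreducible_open {Z : Type u} [TopologicalSpace Z] {O : Set Z} (hO : IsOpen O)
    (hirr : IsPreirreducible O) {z : Z} (hz : z ∈ O) {A B : Set Z} (hA : A ∈ irreducibleComponents Z)
    (hB : B ∈ irreducibleComponents Z) (hzA : z ∈ A) (hzB : z ∈ B) : A = B := by
  have hirr' : IsIrreducible (closure O) := ⟨⟨z, subset_closure hz⟩, hirr.closure⟩
  have key : ∀ C ∈ irreducibleComponents Z, z ∈ C → C = closure O := fun C hC hzC => by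
    have h1 : C ⊆ closure O := (subset_closure_inter_of_isPreirreducible_of_isOpen hC.1.2 hO ⟨z, hzC, hz⟩).trans
      (closure_mono Set.inter_subset_right)
    exact h1.antisymm (hC.2 hirr' h1)
  rw [key A hA hzA, key B hB hzB]

/-- Over the geometric generic point, a rational point has a unique point above it. -/
theorem eq_of_section {X T : Scheme.{u}} {q : X ⟶ T} (σ : T ⟶ X) (hσ : σ ≫ q = 𝟙 T) {K : Type u} [Field K]
    (ω : Spec (CommRingCat.of K) ⟶ T) (t : T) (v : ↥(pullback q ω)) (hv : pullback.fst q ω v = σ t) :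
    v = pullback.lift (ω ≫ σ) (𝟙 _) (by rw [Category.assoc, hσ, Category.comp_id, Category.id_comp])
      (IsLocalRing.closedPoint K) := by
  let σK : Spec (CommRingCat.of K) ⟶ pullback q ω :=
    pullback.lift (ω ≫ σ) (𝟙 _) (by rw [Category.assoc, hσ, Category.comp_id, Category.id_comp])
  have sq : IsPullback σK ω (pullback.fst q ω) σ := by
    have hbig : IsPullback (σK ≫ pullback.snd q ω) ω ω (σ ≫ q) := by
      rw [show σK ≫ pullback.snd q ω = 𝟙 _ from pullback.lift_snd _ _ _, hσ]
      exact IsPullback.of_id_fst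
    exact IsPullback.of_right hbig (pullback.lift_fst _ _ _) (IsPullback.of_hasPullback q ω).flip
  obtain ⟨u, hu, -⟩ := Scheme.exists_preimage_of_isPullback sq v t hv
  rw [← hu]
  exact congrArg σK (Subsingleton.elim (α := PrimeSpectrum K) u (IsLocalRing.closedPoint K))

set_option maxHeartbeats 1600000 in
theorem exists_nhd_section {X T : Scheme.{u}} [IsIntegral T] [IsLocallyNoetherian T] (q : X ⟶ T)
    [LocallyOfFiniteType q] (σ : T ⟶ X) (hσ : σ ≫ q = 𝟙 T) (hG : G q (σ (genericPoint T))) :
    ∃ W : T.Opens, genericPoint T ∈ W ∧ ∀ t ∈ W, G q (σ t) := by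
  haveI := LocallyOfFiniteType.isLocallyNoetherian q
  let η := genericPoint T
  have hqσ : ∀ t, q (σ t) = t := fun t => by rw [← Scheme.Hom.comp_apply, hσ]; rfl
  let k := IsLocalRing.ResidueField (T.presheaf.stalk η)
  let Ω := AlgebraicClosure k
  letI : Algebra k Ω := AlgebraicClosure.instAlgebra k
  let φ : T.residueField η ⟶ CommRingCat.of Ω := CommRingCat.ofHom (algebraMap k Ω)
  let ω := Spec.map φ ≫ T.fromSpecResidueField η
  let P := pullback q ω
  let p := pullback.fst q ω
  haveI : IsLocallyNoetherian P := LocallyOfFiniteType.isLocallyNoetherian (pullback.snd q ω)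
  obtain ⟨v, hv⟩ : ∃ v : P, p v = σ η := by
    obtain ⟨v, hv, -⟩ := Scheme.Pullback.exists_preimage_pullback (f := q) (g := ω) (σ η) (IsLocalRing.closedPoint Ω)
      ((hqσ η).trans (T.fromSpecResidueField_apply η _).symm)
    exact ⟨v, hv⟩
  have hdom : IsDomain (P.presheaf.stalk v) := by
    have : ∀ y, y = η → ∀ (φ' : T.residueField y ⟶ CommRingCat.of Ω) (ω' : Spec (CommRingCat.of Ω) ⟶ T),
        ω' = Spec.map φ' ≫ T.fromSpecResidueField y → y = q (σ η) → ∀ (v : ↥(pullback q ω')),
          pullback.fst q ω' v = σ η → IsDomain ((pullback q ω').presheaf.stalk v) := by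
      rintro _ - φ' _ rfl rfl v hv
      exact isDomain_pullback_of_G hG Ω φ' v hv
    exact this η rfl φ ω rfl (hqσ η).symm v hv
  obtain ⟨O, hvO, hO⟩ := H23.FinCondSch.exists_integral_nhd v
  haveI := hO
  have hOirr : IsPreirreducible (O : Set P) := by
    have h := ((PreirreducibleSpace.isPreirreducible_univ (X := ↥(O : Scheme.{u})))).image O.ι O.ι.continuous.continuousOn
    rwa [Set.image_univ, Scheme.Opens.range_ι] at h
  let e := IsPullback.of_hasPullback q ω
  have hclosed : IsClosedMap (pullback.fst (q.fiberToSpecResidueField η) (Spec.map φ)) := by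
    haveI : IsIntegralHom (Spec.map φ) := by
      rw [IsIntegralHom.SpecMap_iff]
      exact (algebraMap_isIntegral_iff (R := k) (A := Ω)).mpr (Algebra.isAlgebraic_iff_isIntegral.mp (AlgebraicClosure.isAlgebraic k))
    exact (pullback.fst (q.fiberToSpecResidueField η) (Spec.map φ)).isClosedMap
  let α : pullback (q.fiberToSpecResidueField η) (Spec.map φ) ≅ P :=
    ((IsPullback.of_hasPullback (q.fiberToSpecResidueField η) (Spec.map φ)).paste_horiz
      (IsPullback.of_hasPullback q (T.fromSpecResidueField η))).isoPullback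
  have hα : α.hom ≫ p = pullback.fst (q.fiberToSpecResidueField η) (Spec.map φ) ≫ q.fiberι η :=
    IsPullback.isoPullback_hom_fst _
  obtain ⟨W₀, hW₀, hW₀eq⟩ := (q.fiberι η).isEmbedding.isInducing.isClosed_iff.1
    (hclosed _ ((O.2.preimage α.hom.continuous).isClosed_compl))
  have hσW : σ η ∉ W₀ := by
    intro h
    obtain ⟨w, hw⟩ : σ η ∈ Set.range (q.fiberι η) := by rw [Scheme.Hom.range_fiberι]; exact hqσ η
    have hwmem : w ∈ q.fiberι η ⁻¹' W₀ := by rw [Set.mem_preimage, hw]; exact h
    rw [hW₀eq] at hwmem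
    obtain ⟨u, hu, huw⟩ := hwmem
    apply hu
    show α.hom u ∈ O
    have h1 : p (α.hom u) = σ η := by
      rw [← Scheme.Hom.comp_apply, hα, Scheme.Hom.comp_apply, huw, hw]
    rwa [show α.hom u = v from (eq_of_section σ hσ ω η _ h1).trans (eq_of_section σ hσ ω η _ hv).symm]
  obtain ⟨U, hU, hσU, hUW⟩ := exists_isAffineOpen_mem_and_subset (x := σ η) (U := ⟨W₀ᶜ, hW₀.isOpen_compl⟩) hσW
  let g := U.ι ≫ q
  have hUp : p ⁻¹' (U : Set X) ⊆ (O : Set P) := by
    intro z hz
    obtain ⟨u, rfl⟩ := α.hom.surjective z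
    by_contra hzO
    have h1 : q.fiberι η (pullback.fst (q.fiberToSpecResidueField η) (Spec.map φ) u) = p (α.hom u) := by
      rw [← Scheme.Hom.comp_apply, ← hα, Scheme.Hom.comp_apply]
    have h2 : pullback.fst (q.fiberToSpecResidueField η) (Spec.map φ) u ∈ q.fiberι η ⁻¹' W₀ := by
      rw [hW₀eq]; exact ⟨u, hzO, rfl⟩
    rw [Set.mem_preimage, h1] at h2
    exact hUW hz h2
  haveI : CompactSpace (U : Scheme.{u}) := isCompact_iff_compactSpace.mp hU.isCompact
  haveI : IsLocallyNoetherian (U : Scheme.{u}) := LocallyOfFiniteType.isLocallyNoetherian g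
  haveI : IsNoetherian (U : Scheme.{u}) := {}
  haveI : QuasiCompact g := inferInstance
  haveI : IrreducibleSpace ↥(pullback (g.fiberToSpecResidueField η) (Spec.map φ)) := by
    let β : pullback (g.fiberToSpecResidueField η) (Spec.map φ) ≅ pullback g ω :=
      ((IsPullback.of_hasPullback (g.fiberToSpecResidueField η) (Spec.map φ)).paste_horiz
        (IsPullback.of_hasPullback g (T.fromSpecResidueField η))).isoPullback
    let m : pullback g ω ⟶ P := (pullbackRightPullbackFstIso q ω U.ι).inv ≫ pullback.snd U.ι p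
    haveI : IsOpenImmersion m := inferInstance
    have hm : Set.range m = p ⁻¹' (U : Set X) := by
      rw [Scheme.Hom.comp_base, TopCat.coe_comp, Set.range_comp, Function.Surjective.range_eq
        (pullbackRightPullbackFstIso q ω U.ι).inv.surjective, Set.image_univ, Scheme.Pullback.range_snd,
        Scheme.Opens.range_ι]
    have hmirr : IsIrreducible (Set.range m) := by
      rw [hm]
      exact ⟨⟨v, by rw [Set.mem_preimage, hv]; exact hσU⟩, hOirr.open_subset (U.2.preimage p.continuous) hUp⟩
    haveI : IrreducibleSpace ↥(Set.range m) := Subtype.irreducibleSpace hmirr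
    haveI : IrreducibleSpace ↥(pullback g ω) := m.isOpenEmbedding.isEmbedding.toHomeomorph.irreducibleSpace_iff.mpr inferInstance
    exact β.hom.homeomorph.irreducibleSpace_iff.mpr inferInstance
  have hgi : GeometricallyIrreducible (g.fiberToSpecResidueField η) := by
    haveI : Surjective (Spec.map φ) := GrpSchLib.surjective_spec_map_field φ.hom
    haveI : GeometricallyIrreducible (pullback.snd (g.fiberToSpecResidueField η) (Spec.map φ)) := S2500.result _
    exact S4664.result (g.fiberToSpecResidueField η) (Spec.map φ)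
  obtain ⟨V, hV, hVg⟩ := S0419.result g hgi
  haveI : LocallyOfFinitePresentation q := FibreLoc5.lfp_of_noetherian' q
  have hFE : GeomRedFlat5.FE q (σ η) :=
    ⟨FibreLoc5.flat_over_genericPoint q _ (hqσ η), E_of_G hG⟩
  let W₂ : T.Opens := ⟨σ ⁻¹' {x | GeomRedFlat5.FE q x}, (GeomRedFlat5.isOpen_FE q).preimage σ.continuous⟩
  refine ⟨V ⊓ σ ⁻¹ᵁ U ⊓ W₂, ⟨⟨((genericPoint_spec T).mem_open_set_iff V.2).2 (by simpa using hV), hσU⟩, hFE⟩,
    fun t ht => ?_⟩
  let φt : T.residueField (q (σ t)) ⟶ CommRingCat.of (AlgebraicClosure (IsLocalRing.ResidueField (T.presheaf.stalk (q (σ t))))) :=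
    CommRingCat.ofHom (algebraMap (IsLocalRing.ResidueField (T.presheaf.stalk (q (σ t)))) _)
  let ωt := Spec.map φt ≫ T.fromSpecResidueField (q (σ t))
  obtain ⟨w, hw⟩ := GeomRedFlat5.exists_point q (σ t) _ φt
  refine G_of_isDomain _ φt w hw ?_
  haveI : _root_.IsReduced ((pullback q ωt).presheaf.stalk w) :=
    GeomRedFlat5.isReduced_pullback_of_E ht.2.2 _ φt w hw
  refine isDomain_stalk_of_unique w ?_
  intro A hA B hB hwA hwB
  refine eq_of_mem_irreducible_open (O := pullback.fst q ωt ⁻¹' (U : Set X)) (U.2.preimage (pullback.fst q ωt).continuous) ?_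
    (show pullback.fst q ωt w ∈ U by rw [hw]; exact ht.1.2) hA hB hwA hwB
  have hsub : Set.range ωt ⊆ (V : Set T) := by
    rintro _ ⟨z, rfl⟩
    rw [Scheme.Hom.comp_apply, T.fromSpecResidueField_apply, hqσ]
    exact ht.1.1
  obtain ⟨ωV, hωV⟩ : ∃ ωV, ωV ≫ V.ι = ωt :=
    ⟨IsOpenImmersion.lift V.ι ωt (by rwa [Scheme.Opens.range_ι]), IsOpenImmersion.lift_fac _ _ _⟩
  let δ : pullback (g ∣_ V) ωV ≅ pullback g ωt :=
    ((IsPullback.of_hasPullback (g ∣_ V) ωV).paste_horiz (isPullback_morphismRestrict g V).flip).isoPullback ≪≫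
      pullback.congrHom rfl hωV
  haveI : IrreducibleSpace ↥(pullback (g ∣_ V) ωV) :=
    hVg.geometrically_irreducibleSpace _ _ _ (IsPullback.of_hasPullback _ _)
  let m : pullback g ωt ⟶ pullback q ωt :=
    (pullbackRightPullbackFstIso q ωt U.ι).inv ≫ pullback.snd U.ι (pullback.fst q ωt)
  have hm0 : Set.range m = pullback.fst q ωt ⁻¹' (U : Set X) := by
    rw [Scheme.Hom.comp_base, TopCat.coe_comp, Set.range_comp, Function.Surjective.range_eq
        (pullbackRightPullbackFstIso q ωt U.ι).inv.surjective, Set.image_univ, Scheme.Pullback.range_snd,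
      Scheme.Opens.range_ι]
  have hm : Set.range (δ.hom ≫ m) = pullback.fst q ωt ⁻¹' (U : Set X) := by
    rw [← hm0]
    exact δ.hom.surjective.range_comp m
  rw [← hm, ← Set.image_univ]
  exact (PreirreducibleSpace.isPreirreducible_univ).image _ (δ.hom ≫ m).continuous.continuousOn

end Groth.Agent.GeomPtInt5
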