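import Groth.Agent.GeomPtInt5.Generic
import Groth.Agent.UnivOpen.GeomUnibranch
import Groth.Agent.UnivOpen.Criterion
import Groth.Agent.S3410
import Groth.Agent.S1654
import Groth.Agent.GeomRedFlat5.Local
import Groth.Agent.GeomRedFlat5.Nhd

/-!
# Geometric pointwise integrality passes to generizations at points of flatness
-/

set_option autoImplicit false
set_option linter.style.haveILetI false
set_option backward.isDefEq.respectTransparency false
set_option backward.isDefEq.respectTransparency.types false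

universe u

open CategoryTheory Limits AlgebraicGeometry TopologicalSpace IsLocalRing

namespace Groth.Agent.GeomPtInt5

/-- A normal local domain is geometrically unibranch. -/
theorem isGeomUnibranch_of_normal (O : Type u) [CommRing O] [IsLocalRing O] [IsDomain O] [IsIntegrallyClosed O] :
    CAlg2.IsGeomUnibranch O := by
  have h : UnivOpen.GU O := ⟨inferInstance, inferInstance, O, inferInstance, inferInstance, inferInstance,
    Algebra.id O, inferInstance, Function.injective_id, inferInstance,
    fun d => ⟨0, d, by simp⟩, fun d => ⟨d, 1, one_ne_zero, by simp⟩⟩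
  exact UnivOpen.GU.isGeomUnibranch (UnivOpen.GU.of_ringEquiv
    (((Ideal.quotEquivOfEq (nilradical_eq_zero O)).trans (RingEquiv.quotientBot O)) : CAlg2.red O ≃+* O) h)

/-- Base change of a section: the points above it. -/
theorem exists_of_section {X T S : Scheme.{u}} {q : X ⟶ T} (σ : T ⟶ X) (hσ : σ ≫ q = 𝟙 T)
    (ω : S ⟶ T) (t : T) (v : ↥(pullback q ω)) (hv : pullback.fst q ω v = σ t) :
    ∃ z : S, ω z = t ∧ pullback.lift (ω ≫ σ) (𝟙 S)
      (by rw [Category.assoc, hσ, Category.comp_id, Category.id_comp]) z = v := by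
  let σS : S ⟶ pullback q ω :=
    pullback.lift (ω ≫ σ) (𝟙 S) (by rw [Category.assoc, hσ, Category.comp_id, Category.id_comp])
  have sq : IsPullback σS ω (pullback.fst q ω) σ := by
    have hbig : IsPullback (σS ≫ pullback.snd q ω) ω ω (σ ≫ q) := by
      rw [show σS ≫ pullback.snd q ω = 𝟙 _ from pullback.lift_snd _ _ _, hσ]
      exact IsPullback.of_id_fst
    exact IsPullback.of_right hbig (pullback.lift_fst _ _ _) (IsPullback.of_hasPullback q ω).flip
  obtain ⟨u, hu, hu'⟩ := Scheme.exists_preimage_of_isPullback sq v t hv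
  exact ⟨u, hu', hu⟩

set_option maxHeartbeats 3200000 in
set_option synthInstance.maxHeartbeats 200000 in
theorem G_of_dvr_affine {A : Type u} [CommRing A] [IsDomain A] [IsDiscreteValuationRing A] {X : Scheme.{u}}
    (q : X ⟶ Spec (CommRingCat.of A)) [LocallyOfFiniteType q] [QuasiCompact q] [Flat q]
    (σ : Spec (CommRingCat.of A) ⟶ X) (hσ : σ ≫ q = 𝟙 _)
    (hG : G q (σ (closedPoint A))) (o : Spec (CommRingCat.of A)) (ho : o ≠ closedPoint A) :
    G q (σ o) := by
  haveI : IsLocallyNoetherian X := LocallyOfFiniteType.isLocallyNoetherian q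
  let K := FractionRing A
  let ψK : Spec (CommRingCat.of K) ⟶ Spec (CommRingCat.of A) := Spec.map (CommRingCat.ofHom (algebraMap A K))
  let XK := pullback q ψK
  let fK : XK ⟶ Spec (CommRingCat.of K) := pullback.snd q ψK
  haveI : LocallyOfFiniteType fK := inferInstanceAs (LocallyOfFiniteType (pullback.snd q ψK))
  haveI : CompactSpace XK := QuasiCompact.compactSpace_of_compactSpace fK
  haveI : IsLocallyNoetherian XK := LocallyOfFiniteType.isLocallyNoetherian fK
  haveI : AlgebraicGeometry.IsNoetherian XK := {}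
  letI : XK.Over (Spec (CommRingCat.of K)) := ⟨fK⟩
  haveI : LocallyOfFiniteType (XK ↘ Spec (CommRingCat.of K)) := ‹LocallyOfFiniteType fK›
  obtain ⟨L, _, _, hLfin, hLsep, hL⟩ := S1654.result K XK TopologicalSpace.NoetherianSpace.finite_irreducibleComponents
  letI : Algebra A L := ((algebraMap K L).comp (algebraMap A K)).toAlgebra
  haveI : IsScalarTower A K L := .of_algebraMap_eq fun _ => rfl
  haveI : IsDedekindDomain (integralClosure A L) := IsIntegralClosure.isDedekindDomain A K L (integralClosure A L)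
  let B := integralClosure A L
  haveI : FaithfulSMul A L := (faithfulSMul_iff_algebraMap_injective A L).2
    ((algebraMap K L).injective.comp (IsFractionRing.injective A K))
  have hinjB : Function.Injective (algebraMap A B) := fun a b h =>
    FaithfulSMul.algebraMap_injective A L (congrArg Subtype.val h)
  obtain ⟨M, hM, hMA⟩ := Ideal.exists_ideal_over_prime_of_isIntegral_of_isDomain (S := B) (maximalIdeal A)
    (by rw [(RingHom.injective_iff_ker_eq_bot _).1 hinjB]; exact bot_le)
  haveI := hM
  have hM0 : M ≠ ⊥ := fun h => IsDiscreteValuationRing.not_a_field A (by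
    rw [← hMA, h, Ideal.comap_bot_of_injective _ hinjB])
  haveI : IsFractionRing B L := IsIntegralClosure.isFractionRing_of_finite_extension A K L B
  let R : Subalgebra B L := Localization.subalgebra.ofField L M.primeCompl M.primeCompl_le_nonZeroDivisors
  haveI : IsLocalization.AtPrime R M := Localization.subalgebra.isLocalization_ofField L M.primeCompl M.primeCompl_le_nonZeroDivisors
  haveI : IsDiscreteValuationRing R := IsLocalization.AtPrime.isDiscreteValuationRing_of_dedekind_domain B hM0 R
  haveI : IsFractionRing R L := Localization.subalgebra.isFractionRing_ofField L M.primeCompl M.primeCompl_le_nonZeroDivisors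
  let g : Spec (CommRingCat.of R) ⟶ Spec (CommRingCat.of A) :=
    Spec.map (CommRingCat.ofHom ((algebraMap B R).comp (algebraMap A B)))
  let ℓ : Spec (CommRingCat.of L) ⟶ Spec (CommRingCat.of R) := Spec.map (CommRingCat.ofHom (algebraMap R L))
  let ψL : Spec (CommRingCat.of L) ⟶ Spec (CommRingCat.of K) := Spec.map (CommRingCat.ofHom (algebraMap K L))
  have hℓg : ℓ ≫ g = ψL ≫ ψK := by
    simp only [ℓ, g, ψL, ψK, ← Spec.map_comp, ← CommRingCat.ofHom_comp]
    rfl
  have hoB : o.asIdeal = ⊥ := by
    by_contra hb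
    exact ho (PrimeSpectrum.ext (IsLocalRing.eq_maximalIdeal (Ideal.IsPrime.isMaximal_of_ne_bot o.2 hb)))
  let c' : Spec (CommRingCat.of R) := closedPoint R
  let o' : Spec (CommRingCat.of R) := ℓ (closedPoint L)
  have hgc : g c' = closedPoint A := by
    refine PrimeSpectrum.ext ?_
    show (maximalIdeal R).comap ((algebraMap B R).comp (algebraMap A B)) = maximalIdeal A
    rw [← Ideal.comap_comap, show (maximalIdeal R).comap (algebraMap B R) = M from
      IsLocalization.AtPrime.under_maximalIdeal R M, hMA]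
  have hgo : g o' = o := by
    refine PrimeSpectrum.ext ?_
    rw [hoB, show g o' = (ℓ ≫ g) (closedPoint L) from rfl, hℓg]
    show (maximalIdeal L).comap ((algebraMap K L).comp (algebraMap A K)) = ⊥
    rw [IsLocalRing.maximalIdeal_eq_bot, Ideal.comap_bot_of_injective]
    exact (algebraMap K L).injective.comp (IsFractionRing.injective A K)
  have hR' : ∀ z, g z = o → z = o' := fun z hz => by
    have h2 : (o' : PrimeSpectrum R).asIdeal = ⊥ := by
      show (maximalIdeal L).comap (algebraMap R L) = ⊥
      rw [IsLocalRing.maximalIdeal_eq_bot, Ideal.comap_bot_of_injective _ (IsFractionRing.injective R L)]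
    by_cases hb : (z : PrimeSpectrum R).asIdeal = ⊥
    · exact PrimeSpectrum.ext (hb.trans h2.symm)
    · exfalso
      refine ho ?_
      rw [← hz, ← hgc]
      exact congrArg g (PrimeSpectrum.ext (IsLocalRing.eq_maximalIdeal
        (Ideal.IsPrime.isMaximal_of_ne_bot (z : PrimeSpectrum R).2 hb)))
  let q' := pullback.snd q g
  let π := pullback.fst q g
  let σ' : Spec (CommRingCat.of R) ⟶ pullback q g :=
    pullback.lift (g ≫ σ) (𝟙 _) (by rw [Category.assoc, hσ, Category.comp_id, Category.id_comp])
  have hπσ : ∀ t, π (σ' t) = σ (g t) := fun t => by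
    rw [← Scheme.Hom.comp_apply, pullback.lift_fst, Scheme.Hom.comp_apply]
  have hqσ : ∀ t, q' (σ' t) = t := fun t => by
    rw [← Scheme.Hom.comp_apply, pullback.lift_snd]; rfl
  have hG' : G q' (σ' c') := (G_iff_of_isPullback (IsPullback.of_hasPullback q g) _).2 (by rw [hπσ, hgc]; exact hG)
  haveI : IsNoetherianRing R := inferInstance
  haveI : LocallyOfFinitePresentation q' := FibreLoc5.lfp_of_noetherian' q'
  haveI : UniversallyOpen q' := inferInstance
  have hRu : CAlg2.IsGeomUnibranch ((Spec (CommRingCat.of R)).presheaf.stalk (q' (σ' c'))) := by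
    haveI : IsDomain ((Spec (CommRingCat.of R)).presheaf.stalk (q' (σ' c'))) := inferInstance
    haveI : IsIntegrallyClosed ((Spec (CommRingCat.of R)).presheaf.stalk (q' (σ' c'))) := by
      let P : PrimeSpectrum R := q' (σ' c')
      haveI : IsDomain (Localization.AtPrime P.asIdeal) :=
        IsLocalization.isDomain_localization (Ideal.primeCompl_le_nonZeroDivisors _)
      haveI : IsIntegrallyClosed (Localization.AtPrime P.asIdeal) :=
        isIntegrallyClosed_of_isLocalization _ P.asIdeal.primeCompl (Ideal.primeCompl_le_nonZeroDivisors _)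
      exact IsIntegrallyClosed.of_equiv (Spec.stalkIso (CommRingCat.of R) P).commRingCatIsoToRingEquiv.symm
    exact isGeomUnibranch_of_normal _
  have hdom : IsDomain ((pullback q g).presheaf.stalk (σ' c')) :=
    ((S3410.result q' (σ' c') (fun z _ _ => (UnivOpen.universallyOpen_iff_forall q').1 inferInstance _) hG' hRu).2
      inferInstance).1
  haveI := hdom
  let j : pullback q' ℓ ⟶ pullback q g := pullback.fst q' ℓ
  haveI : IsPreimmersion ℓ := IsPreimmersion.of_isLocalization (R := R) (S := L) (nonZeroDivisors R)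
  haveI : IsPreimmersion j := inferInstanceAs (IsPreimmersion (pullback.fst q' ℓ))
  let e₁ : pullback q' ℓ ≅ pullback fK ψL :=
    pullbackLeftPullbackSndIso q g ℓ ≪≫ pullback.congrHom rfl hℓg ≪≫ (pullbackLeftPullbackSndIso q ψK ψL).symm
  let σL : Spec (CommRingCat.of L) ⟶ pullback q' ℓ :=
    pullback.lift (ℓ ≫ σ') (𝟙 _) (by rw [Category.assoc, pullback.lift_snd, Category.comp_id, Category.id_comp])
  let u := σL (closedPoint L)
  have hju : j u = σ' o' := by
    rw [← Scheme.Hom.comp_apply, pullback.lift_fst, Scheme.Hom.comp_apply]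
  have hoc : σ' o' ⤳ σ' c' :=
    ((PrimeSpectrum.le_iff_specializes (o' : PrimeSpectrum R) (c' : PrimeSpectrum R)).1
      (IsLocalRing.le_maximalIdeal (o' : PrimeSpectrum R).2.ne_top)).map σ'.continuous
  have hℓrange : ∀ t : Spec (CommRingCat.of R), t ⤳ o' → t ∈ Set.range ℓ := fun t ht => by
    refine ⟨closedPoint L, ?_⟩
    have h1 := (PrimeSpectrum.le_iff_specializes (t : PrimeSpectrum R) (o' : PrimeSpectrum R)).2 ht
    have h2 : (o' : PrimeSpectrum R).asIdeal = ⊥ := by
      show (maximalIdeal L).comap (algebraMap R L) = ⊥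
      rw [IsLocalRing.maximalIdeal_eq_bot, Ideal.comap_bot_of_injective _ (IsFractionRing.injective R L)]
    exact PrimeSpectrum.ext (h2.trans (le_bot_iff.1 (h2 ▸ h1)).symm)
  have hjrange : ∀ w, w ⤳ σ' o' → w ∈ Set.range j := fun w hw => by
    rw [Scheme.Pullback.range_fst]
    exact hℓrange _ (by have := hw.map q'.continuous; rwa [hqσ] at this)
  have huniq : ∀ T₁ ∈ irreducibleComponents ↥(pullback q' ℓ), ∀ T₂ ∈ irreducibleComponents ↥(pullback q' ℓ),
      u ∈ T₁ → u ∈ T₂ → T₁ = T₂ := by
    intro T₁ h₁ T₂ h₂ hu₁ hu₂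
    have key : ∀ T ∈ irreducibleComponents ↥(pullback q' ℓ), u ∈ T →
        closure (j '' T) ∈ irreducibleComponents ↥(pullback q g) := by
      intro T hT huT
      obtain ⟨a, rfl, ha⟩ := FDescent.exists_maximal_of_mem_irreducibleComponents hT
      rw [closure_image_closure j.continuous, Set.image_singleton]
      refine FDescent.closure_mem_irreducibleComponents fun w hw => ?_
      obtain ⟨b, rfl⟩ := hjrange w (hw.trans (hju ▸ (specializes_iff_mem_closure.2 huT).map j.continuous))
      exact congrArg j (ha b (j.isEmbedding.isInducing.specializes_iff.1 hw))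
    have hmem : ∀ T, u ∈ T → σ' c' ∈ closure (j '' T) := fun T hT =>
      hoc.mem_closed isClosed_closure (subset_closure ⟨u, hT, hju⟩)
    have he := PtIntegral5.eq_of_isDomain_stalk (σ' c') (key T₁ h₁ hu₁) (key T₂ h₂ hu₂) (hmem T₁ hu₁) (hmem T₂ hu₂)
    have := congrArg (fun S => j ⁻¹' S) he
    simp only [← j.isEmbedding.isInducing.closure_eq_preimage_closure_image] at this
    rwa [(isClosed_of_mem_irreducibleComponents _ h₁).closure_eq,
      (isClosed_of_mem_irreducibleComponents _ h₂).closure_eq] at this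
  let k := IsLocalRing.ResidueField ((Spec (CommRingCat.of A)).presheaf.stalk (q (σ o)))
  let Ω := AlgebraicClosure L
  let ψΩ : Spec (CommRingCat.of Ω) ⟶ Spec (CommRingCat.of L) := Spec.map (CommRingCat.ofHom (algebraMap L Ω))
  let ω := ψΩ ≫ ℓ ≫ g
  have hω : ω (closedPoint Ω) = q (σ o) := by
    rw [Scheme.Hom.comp_apply, Scheme.Hom.comp_apply, ← Scheme.Hom.comp_apply σ q, hσ]
    refine Eq.trans ?_ hgo
    exact congrArg (fun t => g (ℓ t)) (Subsingleton.elim (α := PrimeSpectrum L) _ _)
  obtain ⟨φ, hφ⟩ : ∃ φ : (Spec (CommRingCat.of A)).residueField (q (σ o)) ⟶ CommRingCat.of Ω,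
      ω = Spec.map φ ≫ (Spec (CommRingCat.of A)).fromSpecResidueField (q (σ o)) :=
    ⟨_, (GeomRedFlat5.exists_factor_field ω hω).choose_spec.symm⟩
  obtain ⟨v, hv⟩ := GeomRedFlat5.exists_point q (σ o) Ω φ
  refine G_of_isDomain Ω φ v hv ?_
  haveI : _root_.IsReduced ((pullback q (Spec.map φ ≫ (Spec (CommRingCat.of A)).fromSpecResidueField (q (σ o)))).presheaf.stalk v) := by
    refine GeomRedFlat5.isReduced_pullback_of_E ?_ Ω φ v hv
    have hspec : σ o ⤳ σ (closedPoint A) := ((PrimeSpectrum.le_iff_specializes (o : PrimeSpectrum A) (closedPoint A)).1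
      (IsLocalRing.le_maximalIdeal (o : PrimeSpectrum A).2.ne_top)).map σ.continuous
    exact GeomRedFlat5.E_of_specializes q hspec (Flat.stalkMap _ _) (E_of_G hG)
  refine isDomain_stalk_of_unique v ?_
  revert v
  rw [← hφ]
  intro v hv _ A₁ hA₁ A₂ hA₂ hv₁ hv₂
  let r : pullback q ω ⟶ pullback q' ℓ :=
    pullback.lift (pullback.lift (pullback.fst q ω) (pullback.snd q ω ≫ ψΩ ≫ ℓ)
        (by rw [pullback.condition, Category.assoc, Category.assoc]))
      (pullback.snd q ω ≫ ψΩ) (by rw [pullback.lift_snd, Category.assoc])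
  have hr : r v = u := by
    refine eq_of_section σ' (pullback.lift_snd _ _ _) ℓ o' _ ?_
    obtain ⟨z, hz, hzv⟩ := exists_of_section σ hσ g o (pullback.fst q' ℓ (r v))
      (by
        rw [← Scheme.Hom.comp_apply, ← Scheme.Hom.comp_apply,
          show r ≫ pullback.fst q' ℓ ≫ pullback.fst q g = pullback.fst q ω by simp [r, q']]
        exact hv)
    rw [← hzv]
    refine congrArg σ' (hR' z hz)
  have sqr : IsPullback r (pullback.snd q ω) (pullback.snd q' ℓ) ψΩ := by
    have sqL := (IsPullback.of_hasPullback q' ℓ).paste_horiz (IsPullback.of_hasPullback q g)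
    refine IsPullback.of_right ?_ (pullback.lift_snd _ _ _) sqL
    rw [show r ≫ pullback.fst q' ℓ ≫ pullback.fst q g = pullback.fst q ω by simp [r, q']]
    exact IsPullback.of_hasPullback q ω
  have he₁ : e₁.inv ≫ pullback.snd q' ℓ = pullback.snd fK ψL := by
    rw [Iso.inv_comp_eq]
    simp [e₁, q', fK, pullback.congrHom]
  have hcomp : ∀ T ∈ irreducibleComponents ↥(pullback q' ℓ), IsIrreducible (r ⁻¹' T) := by
    intro T hT
    have hT' : e₁.inv ⁻¹' T ∈ irreducibleComponents ↥(pullback fK ψL) := by
      exact preimage_mem_irreducibleComponents hT e₁.inv.isOpenEmbedding (by rw [Function.Surjective.range_eq e₁.inv.surjective, Set.inter_univ]; exact hT.1.nonempty)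
    let S : TopologicalSpace.Closeds ↥(pullback fK ψL) := ⟨e₁.inv ⁻¹' T, isClosed_of_mem_irreducibleComponents _ hT'⟩
    let ι := (Scheme.IdealSheafData.vanishingIdeal S).subschemeι ≫ e₁.inv
    haveI : GeometricallyIrreducible (ι ≫ pullback.snd q' ℓ) := by
      rw [Category.assoc, he₁]
      exact hL _ hT'
    have sqW := (IsPullback.of_hasPullback ι r).paste_vert sqr
    haveI : IrreducibleSpace ↥(pullback ι r) := GeometricallyIrreducible.geometrically_irreducibleSpace _ _ _ sqW
    have hrι : Set.range ι = T := by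
      rw [Scheme.Hom.comp_base, TopCat.coe_comp, Set.range_comp, DimFormula.range_vanishingIdeal]
      exact Set.image_preimage_eq T e₁.inv.surjective
    have hrange : Set.range (pullback.snd ι r) = r ⁻¹' T := by
      rw [Scheme.Pullback.range_snd, hrι]
    rw [← hrange, ← Set.image_univ]
    exact (IrreducibleSpace.isIrreducible_univ _).image _ (pullback.snd ι r).continuous.continuousOn
  have hA : ∀ C ∈ irreducibleComponents ↥(pullback q ω), v ∈ C → ∃ T ∈ irreducibleComponents ↥(pullback q' ℓ),
      u ∈ T ∧ C = r ⁻¹' T := by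
    intro C hC hvC
    obtain ⟨T, hT, hCT⟩ := exists_mem_irreducibleComponents_subset_of_isIrreducible _
      (hC.1.image r r.continuous.continuousOn)
    exact ⟨T, hT, hr ▸ hCT ⟨v, hvC, rfl⟩, (Set.image_subset_iff.1 hCT).antisymm
      (hC.2 (hcomp T hT) (Set.image_subset_iff.1 hCT))⟩
  obtain ⟨T₁, hT₁, hu₁, rfl⟩ := hA A₁ hA₁ hv₁
  obtain ⟨T₂, hT₂, hu₂, rfl⟩ := hA A₂ hA₂ hv₂
  rw [huniq T₁ hT₁ T₂ hT₂ hu₁ hu₂]

/-- Geometric pointwise integrality of fibres passes to generizations at points of flatness. -/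
theorem G_of_specializes {X Y : Scheme.{u}} [IsLocallyNoetherian Y] (f : X ⟶ Y) [LocallyOfFiniteType f] {x x' : X}
    (h : x' ⤳ x) (hflat : (f.stalkMap x).hom.Flat) (hG : G f x) : G f x' := by
  by_cases hne : x = x'
  · exact hne ▸ hG
  haveI := LocallyOfFiniteType.isLocallyNoetherian f
  haveI : LocallyOfFinitePresentation f := FibreLoc5.lfp_of_noetherian' f
  obtain ⟨U, hU, hxU, hUfl⟩ := exists_isAffineOpen_mem_and_subset (x := x)
    (U := ⟨{x | (f.stalkMap x).hom.Flat}, FlatLocus.isOpen_flat_locus f⟩) hflat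
  haveI : IsAffine (U : Scheme.{u}) := hU
  haveI : IsLocallyNoetherian (U : Scheme.{u}) := LocallyOfFiniteType.isLocallyNoetherian (U.ι ≫ f)
  haveI : AlgebraicGeometry.IsNoetherian (U : Scheme.{u}) := {}
  haveI : QuasiCompact (U.ι ≫ f) := inferInstance
  haveI : Flat (U.ι ≫ f) := GeomRedFlat5.flat_of_range_subset (f := f) U.ι fun z => hUfl z.2
  let u : (U : Scheme.{u}) := ⟨x, hxU⟩
  let u' : (U : Scheme.{u}) := ⟨x', h.mem_open U.2 hxU⟩
  have hu : u' ⤳ u := U.ι.isOpenEmbedding.isInducing.specializes_iff.1 h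
  obtain ⟨A, _, _, _, τ, hτc, hτo⟩ := UnivOpen.exists_dvr_lift hu (fun e => hne (congrArg U.ι e))
  let g := τ ≫ U.ι ≫ f
  let σ : Spec (CommRingCat.of A) ⟶ pullback (U.ι ≫ f) g := pullback.lift τ (𝟙 _) (by simp [g])
  have key : ∀ t, G (pullback.snd (U.ι ≫ f) g) (σ t) ↔ G f (U.ι (τ t)) := fun t => by
    rw [G_iff_of_isPullback (IsPullback.of_hasPullback (U.ι ≫ f) g), ← Scheme.Hom.comp_apply σ, pullback.lift_fst,
      G_comp_openImmersion]
  let o : Spec (CommRingCat.of A) := (⟨⊥, Ideal.isPrime_bot⟩ : PrimeSpectrum A)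
  have ho : o ≠ closedPoint A := fun e =>
    IsDiscreteValuationRing.not_a_field A (congrArg PrimeSpectrum.asIdeal e).symm
  haveI : QuasiCompact (pullback.snd (U.ι ≫ f) g) := inferInstance
  haveI : Flat (pullback.snd (U.ι ≫ f) g) := inferInstance
  haveI : LocallyOfFiniteType (pullback.snd (U.ι ≫ f) g) := inferInstance
  have := G_of_dvr_affine (pullback.snd (U.ι ≫ f) g) σ (pullback.lift_snd _ _ _)
    ((key _).2 (by rw [hτc]; exact hG)) o ho
  rw [key, hτo o ho] at this
  exact this

end Groth.Agent.GeomPtInt5
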