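import Groth.Agent.GeomRedFlat5.Inv
import Groth.Agent.PtIntegral5.Components

/-!
# Invariance of geometric pointwise integrality of fibres under base change
-/

set_option autoImplicit false
set_option linter.style.haveILetI false

universe u

open CategoryTheory Limits AlgebraicGeometry

namespace Groth.Agent.GeomPtInt5

open GeomRedFlat5 (exists_bcIso exists_point)

variable {X Y : Scheme.{u}}

/-- The fibre of `f` through `x` is geometrically pointwise integral at `x`. -/
abbrev G (f : X ⟶ Y) (x : X) : Prop :=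
  FBase.IsGeomPtIntegralAt (f.fiberToSpecResidueField (f.base x)) (f.asFiber x)

theorem E_of_G {f : X ⟶ Y} {x : X} (h : G f x) : GeomRedFlat5.E f x := fun K _ _ v hv => by
  haveI := h K v hv
  infer_instance

theorem isDomain_iff_of_bijective {R S : CommRingCat.{u}} (φ : R ⟶ S) (h : Function.Bijective φ.hom) :
    IsDomain R ↔ IsDomain S :=
  ⟨fun _ => (RingEquiv.ofBijective φ.hom h).symm.toMulEquiv.isDomain _,
    fun _ => (RingEquiv.ofBijective φ.hom h).toMulEquiv.isDomain _⟩

theorem isDomain_stalk_iff_of_iso {Z W : Scheme.{u}} (e : Z ⟶ W) [IsIso e] (z : Z) :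
    IsDomain (W.presheaf.stalk (e.base z)) ↔ IsDomain (Z.presheaf.stalk z) :=
  isDomain_iff_of_bijective (e.stalkMap z) (ConcreteCategory.bijective_of_isIso _)

theorem isDomain_pullback_of_G {f : X ⟶ Y} {x : X} (h : G f x) (K : Type u) [Field K]
    (φ : Y.residueField (f.base x) ⟶ CommRingCat.of K)
    (z : ↥(pullback f (Spec.map φ ≫ Y.fromSpecResidueField (f.base x)))) (hz : (pullback.fst f _).base z = x) :
    IsDomain ((pullback f (Spec.map φ ≫ Y.fromSpecResidueField (f.base x))).presheaf.stalk z) := by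
  letI : Algebra (IsLocalRing.ResidueField (Y.presheaf.stalk (f.base x))) K := φ.hom.toAlgebra
  obtain ⟨e, he⟩ := exists_bcIso f (f.base x) φ rfl
  obtain ⟨v, rfl⟩ : ∃ v, e.hom.base v = z := e.hom.homeomorph.surjective z
  rw [isDomain_stalk_iff_of_iso]
  refine h K v ((f.fiberι (f.base x)).isEmbedding.injective ?_)
  rw [Scheme.Hom.fiberι_asFiber, ← Scheme.Hom.comp_apply, ← he, Scheme.Hom.comp_apply]
  exact hz

/-- One algebraically closed field is enough. -/
theorem G_of_isDomain {f : X ⟶ Y} {x : X} (K : Type u) [Field K] [IsAlgClosed K]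
    (φ : Y.residueField (f.base x) ⟶ CommRingCat.of K)
    (z : ↥(pullback f (Spec.map φ ≫ Y.fromSpecResidueField (f.base x)))) (hz : (pullback.fst f _).base z = x)
    (h : IsDomain ((pullback f (Spec.map φ ≫ Y.fromSpecResidueField (f.base x))).presheaf.stalk z)) :
    G f x := by
  letI : Algebra (IsLocalRing.ResidueField (Y.presheaf.stalk (f.base x))) K := φ.hom.toAlgebra
  obtain ⟨e, he⟩ := exists_bcIso f (f.base x) φ rfl
  obtain ⟨v, rfl⟩ : ∃ v, e.hom.base v = z := e.hom.homeomorph.surjective z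
  rw [isDomain_stalk_iff_of_iso] at h
  have hv : FBase.bcπ (f.fiberToSpecResidueField (f.base x)) K v = f.asFiber x := by
    refine (f.fiberι (f.base x)).isEmbedding.injective ?_
    rw [Scheme.Hom.fiberι_asFiber, ← Scheme.Hom.comp_apply, ← he, Scheme.Hom.comp_apply]
    exact hz
  have := (S4630.result (f.fiberToSpecResidueField (f.base x)) v).2 ((S4631.result _ v).2 h)
  rwa [hv] at this

/-- A point of every extension of the residue field over `x`. -/
theorem exists_point (f : X ⟶ Y) (x : X) (K : Type u) [Field K] (φ : Y.residueField (f.base x) ⟶ CommRingCat.of K) :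
    ∃ z : ↥(pullback f (Spec.map φ ≫ Y.fromSpecResidueField (f.base x))), (pullback.fst f _).base z = x := by
  obtain ⟨z, hz, -⟩ := Scheme.Pullback.exists_preimage_pullback (f := f)
    (g := Spec.map φ ≫ Y.fromSpecResidueField (f.base x)) x (IsLocalRing.closedPoint K)
    (Y.fromSpecResidueField_apply (f.base x) _).symm
  exact ⟨z, hz⟩

/-- Geometric pointwise integrality of fibres is invariant under base change. -/
theorem G_iff_of_isPullback {X' Y' : Scheme.{u}} {f : X ⟶ Y} {p : X' ⟶ X} {q : X' ⟶ Y'} {g : Y' ⟶ Y}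
    (h : IsPullback p q f g) (z : X') : G q z ↔ G f (p.base z) := by
  have hgy : g (q z) = f (p z) := by
    rw [← Scheme.Hom.comp_apply, ← h.w]; rfl
  let ρ : Y.residueField (f (p z)) ⟶ Y'.residueField (q z) := (Y.residueFieldCongr hgy).inv ≫ g.residueFieldMap (q z)
  have hρ : Spec.map ρ ≫ Y.fromSpecResidueField (f (p z)) = Y'.fromSpecResidueField (q z) ≫ g := by
    simp only [ρ, Spec.map_comp, Category.assoc, Scheme.residueFieldCongr_inv,
      Scheme.residueFieldCongr_fromSpecResidueField, Scheme.Hom.SpecMap_residueFieldMap_fromSpecResidueField]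
  have main : ∀ (K : Type u) [Field K] (φ : Y'.residueField (q z) ⟶ CommRingCat.of K),
      ∃ e : pullback q (Spec.map φ ≫ Y'.fromSpecResidueField (q z)) ≅
          pullback f (Spec.map (ρ ≫ φ) ≫ Y.fromSpecResidueField (f (p z))),
        e.hom ≫ pullback.fst f _ = pullback.fst q _ ≫ p := by
    intro K _ φ
    have hg : Spec.map (ρ ≫ φ) ≫ Y.fromSpecResidueField (f (p z)) =
        (Spec.map φ ≫ Y'.fromSpecResidueField (q z)) ≫ g := by
      rw [Spec.map_comp, Category.assoc, Category.assoc, hρ]
    have sq := (IsPullback.of_hasPullback q (Spec.map φ ≫ Y'.fromSpecResidueField (q z))).paste_horiz h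
    rw [← hg] at sq
    exact ⟨sq.isoPullback, sq.isoPullback_hom_fst⟩
  let Ω := AlgebraicClosure (IsLocalRing.ResidueField (Y'.presheaf.stalk (q z)))
  let φ : Y'.residueField (q z) ⟶ CommRingCat.of Ω :=
    CommRingCat.ofHom (algebraMap (IsLocalRing.ResidueField (Y'.presheaf.stalk (q z))) Ω)
  obtain ⟨e, he⟩ := main Ω φ
  obtain ⟨v, hv⟩ := exists_point q z Ω φ
  have hev : (pullback.fst f (Spec.map (ρ ≫ φ) ≫ Y.fromSpecResidueField (f (p z)))).base (e.hom.base v) = p z := by
    rw [← Scheme.Hom.comp_apply, he, Scheme.Hom.comp_apply, hv]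
  refine ⟨fun hq => G_of_isDomain Ω (ρ ≫ φ) (e.hom.base v) hev ?_, fun hf => G_of_isDomain Ω φ v hv ?_⟩
  · rw [isDomain_stalk_iff_of_iso]
    exact isDomain_pullback_of_G hq Ω φ v hv
  · rw [← isDomain_stalk_iff_of_iso e.hom]
    exact isDomain_pullback_of_G hf Ω (ρ ≫ φ) _ hev

/-- Open immersions on the source. -/
theorem G_comp_openImmersion {U : Scheme.{u}} (j : U ⟶ X) [IsOpenImmersion j] (f : X ⟶ Y) (u : U) :
    G (j ≫ f) u ↔ G f (j.base u) := by
  let Ω := AlgebraicClosure (IsLocalRing.ResidueField (Y.presheaf.stalk (f (j u))))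
  let φ : Y.residueField (f (j u)) ⟶ CommRingCat.of Ω :=
    CommRingCat.ofHom (algebraMap (IsLocalRing.ResidueField (Y.presheaf.stalk (f (j u)))) Ω)
  let g := Spec.map φ ≫ Y.fromSpecResidueField (f (j u))
  let m : pullback (j ≫ f) g ⟶ pullback f g :=
    (pullbackRightPullbackFstIso f g j).inv ≫ pullback.snd j (pullback.fst f g)
  haveI : IsOpenImmersion m := inferInstance
  have hm : m ≫ pullback.fst f g = pullback.fst (j ≫ f) g ≫ j := by
    simp only [m, Category.assoc]
    rw [← pullback.condition, pullbackRightPullbackFstIso_inv_fst_assoc]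
  obtain ⟨v, hv⟩ : ∃ v : ↥(pullback (j ≫ f) g), (pullback.fst (j ≫ f) g).base v = u :=
    exists_point (j ≫ f) u Ω φ
  have hmv : (pullback.fst f g).base (m.base v) = j u := by
    refine (Scheme.Hom.comp_apply m _ v).symm.trans ((congrArg (fun m' : _ ⟶ X => m'.base v) hm).trans ?_)
    exact congrArg j.base hv
  have hiff := isDomain_iff_of_bijective (m.stalkMap v) (ConcreteCategory.bijective_of_isIso _)
  exact ⟨fun h => G_of_isDomain Ω φ (m.base v) hmv (hiff.2 (isDomain_pullback_of_G h Ω φ v hv)),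
    fun h => G_of_isDomain (f := j ≫ f) (x := u) Ω φ v hv (hiff.1 (isDomain_pullback_of_G h Ω φ _ hmv))⟩

/-- A reduced local ring at a point of a single component is a domain. -/
theorem isDomain_stalk_of_unique {Z : Scheme.{u}} (z : Z) [_root_.IsReduced (Z.presheaf.stalk z)]
    (h : ∀ A ∈ irreducibleComponents (Z : Type u), ∀ B ∈ irreducibleComponents (Z : Type u),
      z ∈ A → z ∈ B → A = B) : IsDomain (Z.presheaf.stalk z) := by
  have hto : ∀ p : PrimeSpectrum (Z.presheaf.stalk z), Z.fromSpecStalk z p ⤳ z := fun p => by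
    have : Z.fromSpecStalk z p ∈ Set.range (Z.fromSpecStalk z) := ⟨p, rfl⟩
    rwa [Scheme.range_fromSpecStalk] at this
  have hmin : ∀ (p : Ideal (Z.presheaf.stalk z)) (hp : p ∈ minimalPrimes (Z.presheaf.stalk z)),
      closure {Z.fromSpecStalk z (⟨p, hp.1.1⟩ : PrimeSpectrum (Z.presheaf.stalk z))} ∈
        irreducibleComponents (Z : Type u) := by
    intro p hp
    refine FDescent.closure_mem_irreducibleComponents fun w hw => ?_
    obtain ⟨q, rfl⟩ : w ∈ Set.range (Z.fromSpecStalk z) := by
      rw [Scheme.range_fromSpecStalk]; exact hw.trans (hto _)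
    let q' : PrimeSpectrum (Z.presheaf.stalk z) := q
    have hle : q'.asIdeal ≤ p := (PrimeSpectrum.le_iff_specializes q' ⟨p, hp.1.1⟩).2
      ((Z.fromSpecStalk z).isEmbedding.isInducing.specializes_iff.1 hw)
    exact congrArg (Z.fromSpecStalk z) (show q' = ⟨p, hp.1.1⟩ from
      PrimeSpectrum.ext (le_antisymm hle (hp.2 ⟨q'.2, bot_le⟩ hle)))
  obtain ⟨p, hp, -⟩ := Ideal.exists_minimalPrimes_le
    (bot_le : (⊥ : Ideal (Z.presheaf.stalk z)) ≤ IsLocalRing.maximalIdeal _)
  have hone : ∀ q ∈ minimalPrimes (Z.presheaf.stalk z), p = q := fun q hq => by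
    have e := h _ (hmin p hp) _ (hmin q hq) (specializes_iff_mem_closure.1 (hto _))
      (specializes_iff_mem_closure.1 (hto _))
    exact congrArg PrimeSpectrum.asIdeal ((Z.fromSpecStalk z).isEmbedding.injective
      (IsGenericPoint.eq isGenericPoint_closure (e.symm ▸ isGenericPoint_closure)))
  have hbot : p = ⊥ := by
    refine eq_bot_iff.2 fun a ha => ?_
    have : a ∈ sInf (minimalPrimes (Z.presheaf.stalk z)) := by
      rw [Submodule.mem_sInf]
      exact fun q hq => hone q hq ▸ ha
    rw [show sInf (minimalPrimes (Z.presheaf.stalk z)) = (⊥ : Ideal (Z.presheaf.stalk z)).radical from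
      Ideal.sInf_minimalPrimes] at this
    exact Ideal.mem_bot.2 (IsNilpotent.eq_zero (mem_nilradical.1 this))
  haveI : (⊥ : Ideal (Z.presheaf.stalk z)).IsPrime := hbot ▸ hp.1.1
  exact IsDomain.of_bot_isPrime _


end Groth.Agent.GeomPtInt5
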