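import Groth.Agent.GeomPtInt5.Open
import Groth.Agent.FibreLoc5.Constr
import Groth.Agent.Codepth5.AssBase
import Groth.Agent.S5935
import Groth.Agent.GeomField.Irreducible

/-!
# Loci of geometrically pointwise integral fibres
-/

set_option autoImplicit false
set_option linter.style.haveILetI false
set_option linter.unusedVariables false

universe u

open CategoryTheory Limits AlgebraicGeometry Topology

namespace Groth.Agent.GeomPtInt5

theorem good_G : FibreLoc5.Good.{u} (fun _ _ f x => G f x) where
  baseChange X Y X' Y' f p q g h _ z := G_iff_of_isPullback h z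
  source U X Y j f _ u := G_comp_openImmersion j f u
  isOpen X Y f _ := isOpen_FG f

variable {X Y : Scheme.{u}} (f : X ⟶ Y)

theorem forall_fibre_iff (s : Y) :
    (∀ w : ↥(f.fiber s), FBase.IsGeomPtIntegralAt (f.fiberToSpecResidueField s) w) ↔ ∀ x, f x = s → G f x := by
  constructor
  · rintro h x rfl
    exact h _
  · intro h w
    exact Codepth5.fibre_induction f (fun y w => (∀ x, f x = y → G f x) →
      FBase.IsGeomPtIntegralAt (f.fiberToSpecResidueField y) w) (fun x h => h x rfl) s w h

theorem isOpen_G [Flat f] [LocallyOfFinitePresentation f] : IsOpen {x : X | G f x} := by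
  convert isOpen_FG f using 1
  ext x
  exact ⟨fun h => ⟨Flat.stalkMap _ _, h⟩, fun h => h.2⟩

theorem isOpen_forall_fibre [IsProper f] [Flat f] [LocallyOfFinitePresentation f] :
    IsOpen {y : Y | ∀ w : ↥(f.fiber y), FBase.IsGeomPtIntegralAt (f.fiberToSpecResidueField y) w} := by
  convert (f.isClosedMap _ (isOpen_G f).isClosed_compl).isOpen_compl using 1
  ext y
  show (∀ w : ↥(f.fiber y), FBase.IsGeomPtIntegralAt (f.fiberToSpecResidueField y) w) ↔ y ∉ f '' {x | G f x}ᶜ
  rw [forall_fibre_iff]
  exact ⟨fun h ⟨x, hx, hxy⟩ => hx (h x hxy), fun h x hxy => by_contra fun hx => h ⟨x, hx, hxy⟩⟩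

theorem geometricallyIntegral_fibre_iff [LocallyOfFiniteType f] [QuasiCompact f] (y : Y) :
    GeometricallyIntegral (f.fiberToSpecResidueField y) ↔
      (∀ w : ↥(f.fiber y), FBase.IsGeomPtIntegralAt (f.fiberToSpecResidueField y) w) ∧
        GeometricallyReduced (f.fiberToSpecResidueField y) ∧ MoreMor.nGeomConnComp f y = 1 := by
  let Ω := SeparableClosure (Y.residueField y)
  let t : MoreMor.geomFiber f y ⟶ Spec (CommRingCat.of Ω) := pullback.snd _ _
  haveI : LocallyOfFiniteType t := inferInstanceAs (LocallyOfFiniteType (pullback.snd (f.fiberToSpecResidueField y) _))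
  haveI : QuasiCompact t := inferInstanceAs (QuasiCompact (pullback.snd (f.fiberToSpecResidueField y) _))
  haveI : CompactSpace ↥(MoreMor.geomFiber f y) := QuasiCompact.compactSpace_of_compactSpace t
  haveI : IsLocallyNoetherian (MoreMor.geomFiber f y) := LocallyOfFiniteType.isLocallyNoetherian t
  haveI : AlgebraicGeometry.IsNoetherian (MoreMor.geomFiber f y) := {}
  let k := IsLocalRing.ResidueField (Y.presheaf.stalk y)
  letI : Algebra k Ω := (inferInstance : Algebra (Y.residueField y) (SeparableClosure (Y.residueField y)))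
  constructor
  · intro h
    have hint : ∀ (K : Type u) [Field K] [Algebra (IsLocalRing.ResidueField (Y.presheaf.stalk y)) K],
        IsIntegral (FBase.bc (f.fiberToSpecResidueField y) K) := fun K _ _ =>
      h.geometrically_isIntegral _ _ _ (IsPullback.of_hasPullback _ _)
    refine ⟨fun w K _ _ v _ => ?_, ⟨fun K _ φ Z a b hZ => ?_⟩, ?_⟩
    · haveI := hint K
      infer_instance
    · haveI := h.geometrically_isIntegral φ a b hZ
      infer_instance
    · haveI : IsIntegral (MoreMor.geomFiber f y) := hint Ω
      exact ENat.card_eq_one_iff_unique.2 ((unique_iff_subsingleton_and_nonempty _).2 ⟨inferInstance,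
        ⟨_root_.ConnectedComponents.mk (Nonempty.some inferInstance)⟩⟩)
  · rintro ⟨hG, hred, hconn⟩
    haveI := hred
    have hdom : ∀ w : ↥(MoreMor.geomFiber f y), IsDomain ((MoreMor.geomFiber f y).presheaf.stalk w) := fun w =>
      hG (pullback.fst (f.fiberToSpecResidueField y) _ w) Ω w rfl
    obtain ⟨-, hcard⟩ := (PtIntegral5.forall_isDomain_stalk_iff _
      TopologicalSpace.NoetherianSpace.finite_irreducibleComponents).1 hdom
    have hone : Nat.card (_root_.ConnectedComponents ↥(MoreMor.geomFiber f y)) = 1 := by
      exact Nat.card_eq_one_iff_unique.2 ((unique_iff_subsingleton_and_nonempty _).1 (ENat.card_eq_one_iff_unique.1 hconn))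
    rw [hone, Nat.card_eq_one_iff_unique] at hcard
    obtain ⟨hsub, ⟨C⟩⟩ := hcard
    have hC : C.1 = Set.univ := Set.eq_univ_of_forall fun z =>
      (congrArg Subtype.val (hsub.elim ⟨_, irreducibleComponent_mem_irreducibleComponents z⟩ C)) ▸ mem_irreducibleComponent
    haveI : IrreducibleSpace ↥(MoreMor.geomFiber f y) := irreducibleSpace_def _ |>.2 (Set.top_eq_univ.symm ▸ hC ▸ C.2.1)
    letI : (f.fiber y).Over (Spec (CommRingCat.of (Y.residueField y))) := ⟨f.fiberToSpecResidueField y⟩
    haveI : GeometricallyIrreducible (f.fiberToSpecResidueField y) :=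
      GeomField.geometricallyIrreducible_of_separableClosure (k := Y.residueField y) (X := f.fiber y)
        (show IrreducibleSpace ↥(MoreMor.geomFiber f y) from inferInstance)
    exact GeometricallyIntegral.of_geometricallyReduced_of_geometricallyIrreducible _

theorem isOpen_geometricallyIntegral [IsProper f] [Flat f] [LocallyOfFinitePresentation f] :
    IsOpen {y : Y | GeometricallyIntegral (f.fiberToSpecResidueField y)} := by
  convert (isOpen_forall_fibre f).inter (S5935.result f 1 le_rfl) using 1
  ext y
  exact geometricallyIntegral_fibre_iff f y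

end Groth.Agent.GeomPtInt5
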