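import Groth.Agent.GeomPtInt5.Generize

/-!
# Openness of the locus of flat points with geometrically pointwise integral fibres
-/

set_option autoImplicit false
set_option linter.style.haveILetI false

universe u

open CategoryTheory Limits AlgebraicGeometry TensorProduct

namespace Groth.Agent.GeomPtInt5

open GeomRedFlat5 (isPullback_tensor isPullback_model flat_chart)

/-- Flatness at `x` and geometric pointwise integrality of the fibre at `x`. -/
abbrev FG {X Y : Scheme.{u}} (f : X ⟶ Y) (x : X) : Prop := (f.stalkMap x).hom.Flat ∧ G f x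

theorem G_comp_mono {X Y Z : Scheme.{u}} (q : X ⟶ Y) (e : Y ⟶ Z) [Mono e] (x : X) : G (q ≫ e) x ↔ G q x := by
  have h : IsPullback (𝟙 X) q (q ≫ e) e :=
    IsPullback.mk ⟨by simp⟩ ⟨PullbackCone.IsLimit.mk _
      (fun s => s.fst) (fun s => by simp) (fun s => (cancel_mono e).1 (by rw [Category.assoc]; exact s.condition))
      (fun s m h1 _ => by simpa using h1)⟩
  exact ((G_iff_of_isPullback h x).trans Iff.rfl).symm

section affine

variable {A B : CommRingCat.{u}} (φ : A ⟶ B)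

theorem exists_generic_nhd [IsNoetherianRing A] (hφ : φ.hom.FiniteType) (q : PrimeSpectrum B)
    (hG : G (Spec.map φ) q) :
    ∃ f ∉ q.asIdeal, ∀ q' : PrimeSpectrum B, q.asIdeal ≤ q'.asIdeal → f ∉ q'.asIdeal → G (Spec.map φ) q' := by
  haveI : IsNoetherianRing B := by
    letI := φ.hom.toAlgebra
    haveI : Algebra.FiniteType A B := hφ
    exact Algebra.FiniteType.isNoetherianRing A B
  haveI : LocallyOfFiniteType (Spec.map φ) := (HasRingHomProperty.Spec_iff (P := @LocallyOfFiniteType)).2 hφ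
  obtain ⟨T, j, _, _, hr, hj⟩ := ConsPropLib.exists_integral_closure (S := Spec B) q
  haveI : IsLocallyNoetherian T := LocallyOfFiniteType.isLocallyNoetherian j
  let g := j ≫ Spec.map φ
  let σ : T ⟶ pullback (Spec.map φ) g := pullback.lift j (𝟙 _) (by simp [g])
  have key : ∀ t, G (pullback.snd (Spec.map φ) g) (σ t) ↔ G (Spec.map φ) (j t) := fun t => by
    rw [G_iff_of_isPullback (IsPullback.of_hasPullback (Spec.map φ) g), ← Scheme.Hom.comp_apply σ, pullback.lift_fst]
  haveI : LocallyOfFiniteType (pullback.snd (Spec.map φ) g) := inferInstance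
  obtain ⟨W, hW, hWG⟩ := exists_nhd_section (pullback.snd (Spec.map φ) g) σ (pullback.lift_snd _ _ _)
    ((key _).2 (by rw [hj]; exact hG))
  obtain ⟨O, hO, hOW⟩ := (j.isClosedEmbedding.isInducing.isOpen_iff).1 W.2
  let qq : Spec B := q
  have hqO : qq ∈ O := (show j (genericPoint T) = qq from hj) ▸ (hOW.symm ▸ hW : genericPoint T ∈ j ⁻¹' O)
  obtain ⟨_, ⟨f, rfl⟩, hf, hfO⟩ :=
    PrimeSpectrum.isTopologicalBasis_basic_opens.exists_subset_of_mem_open (a := q) hqO hO
  refine ⟨f, hf, fun q' hq' hfq' => ?_⟩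
  obtain ⟨t, ht⟩ : (q' : Spec B) ∈ Set.range j := by
    rw [hr]; exact specializes_iff_mem_closure.1 ((PrimeSpectrum.le_iff_specializes q q').1 hq')
  have htW : t ∈ (W : Set T) := by
    refine hOW.le ?_
    show j t ∈ O
    rw [ht]; exact hfO hfq'
  exact ht ▸ (key t).1 (hWG t htW)

/-- Openness over a Noetherian ring. -/
theorem isOpen_FG_Spec_noetherian [IsNoetherianRing A] (hφ : φ.hom.FiniteType) :
    IsOpen {q : Spec B | FG (Spec.map φ) q} := by
  haveI : LocallyOfFinitePresentation (Spec.map φ) :=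
    (HasRingHomProperty.Spec_iff (P := @LocallyOfFinitePresentation)).2 (RingHom.FinitePresentation.of_finiteType.1 hφ)
  haveI : IsNoetherianRing B := by
    letI := φ.hom.toAlgebra
    haveI : Algebra.FiniteType A B := hφ
    exact Algebra.FiniteType.isNoetherianRing A B
  have hflat := FlatLocus.isOpen_flat_locus (Spec.map φ)
  refine RegLoc6.isOpen_of_forall_generic (A := B) {q : PrimeSpectrum B | FG (Spec.map φ) q} ?_ ?_
  · intro x y hxy hy
    have h : (x : Spec B) ⤳ (y : Spec B) := (PrimeSpectrum.le_iff_specializes x y).1 hxy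
    haveI : LocallyOfFiniteType (Spec.map φ) := (HasRingHomProperty.Spec_iff (P := @LocallyOfFiniteType)).2 hφ
    exact ⟨hflat.stableUnderGeneralization h hy.1, G_of_specializes _ h hy.1 hy.2⟩
  · rintro x ⟨hx₁, hx₂⟩
    obtain ⟨f, hf, hfG⟩ := exists_generic_nhd φ hφ x hx₂
    obtain ⟨_, ⟨g, rfl⟩, hg, hgO⟩ :=
      PrimeSpectrum.isTopologicalBasis_basic_opens.exists_subset_of_mem_open (a := x) (show x ∈ _ from hx₁) hflat
    exact ⟨f * g, fun h => (x.2.mem_or_mem h).elim hf hg, fun y hxy hy =>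
      ⟨hgO fun h => hy (y.asIdeal.mul_mem_left _ h), hfG y hxy fun h => hy (y.asIdeal.mul_mem_right _ h)⟩⟩

end affine

theorem G_chart {X Y : Scheme.{u}} (f : X ⟶ Y) {A B : CommRingCat.{u}} (φ : A ⟶ B) (j : Spec B ⟶ X)
    [IsOpenImmersion j] (i : Spec A ⟶ Y) [IsOpenImmersion i] (h : j ≫ f = Spec.map φ ≫ i) (q : Spec B) :
    G f (j.base q) ↔ G (Spec.map φ) q := by
  rw [← G_comp_openImmersion j f q, h, G_comp_mono]

/-- Openness over a locally Noetherian base. -/
theorem isOpen_FG_noetherian {X Y : Scheme.{u}} [IsLocallyNoetherian Y] (f : X ⟶ Y) [LocallyOfFiniteType f] :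
    IsOpen {x : X | FG f x} := by
  rw [isOpen_iff_forall_mem_open]
  intro x hx
  obtain ⟨V, hV, hxV, -⟩ := exists_isAffineOpen_mem_and_subset (U := (⊤ : Y.Opens)) (x := f x) trivial
  obtain ⟨U, hU, hxU, hUV⟩ := exists_isAffineOpen_mem_and_subset (U := f ⁻¹ᵁ V) (x := x) hxV
  haveI : IsNoetherianRing Γ(Y, V) := IsLocallyNoetherian.component_noetherian ⟨V, hV⟩
  have hsq : hU.fromSpec ≫ f = Spec.map (f.appLE V U hUV) ≫ hV.fromSpec := (hV.SpecMap_appLE_fromSpec f hU hUV).symm
  have hopen : IsOpen (hU.fromSpec ⁻¹' {x : X | FG f x}) := by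
    convert! isOpen_FG_Spec_noetherian (f.appLE V U hUV) (f.finiteType_appLE hV hU hUV) using 1
    ext q
    exact and_congr (flat_chart f _ _ _ hsq q) (G_chart f _ _ _ hsq q)
  refine ⟨hU.fromSpec '' (hU.fromSpec ⁻¹' {x : X | FG f x}),
    Set.image_preimage_subset _ _, hU.fromSpec.isOpenEmbedding.isOpenMap _ hopen, ?_⟩
  obtain ⟨q, rfl⟩ : x ∈ Set.range hU.fromSpec := by rw [hU.range_fromSpec]; exact hxU
  exact ⟨q, hx, rfl⟩

section model

variable {A B : Type u} [CommRing A] [CommRing B] [Algebra A B]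

/-- Geometric pointwise integrality at a prime of a flat algebra spreads out. -/
theorem isOpen_G_of_flat [Algebra.FinitePresentation A B] [Module.Flat A B] :
    IsOpen {q : Spec (CommRingCat.of B) | G (Spec.map (CommRingCat.ofHom (algebraMap A B))) q} := by
  obtain ⟨A₁, B₁, _, _, hA₁, hfl, hfp, ⟨e⟩⟩ := SrcDescent.exists_flat_model A B
  haveI : Algebra.FiniteType ℤ A₁ := (Subalgebra.fg_iff_finiteType A₁).1 hA₁
  haveI : IsNoetherianRing (CommRingCat.of A₁) := Algebra.FiniteType.isNoetherianRing ℤ A₁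
  have sq := isPullback_model e
  let φ₁ := CommRingCat.ofHom (algebraMap A₁ B₁)
  haveI : Flat (Spec.map φ₁) := (HasRingHomProperty.Spec_iff (P := @Flat)).2 (RingHom.flat_algebraMap_iff.2 hfl)
  have hopen := isOpen_FG_Spec_noetherian φ₁ (RingHom.finiteType_algebraMap.2 inferInstance)
  convert! hopen.preimage (Spec.map (CommRingCat.ofHom (S := B)
        (e.symm.toRingEquiv.toRingHom.comp (Algebra.TensorProduct.includeRight : B₁ →ₐ[A₁] A ⊗[A₁] B₁).toRingHom))).continuous
    using 1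
  ext q
  exact (G_iff_of_isPullback sq q).trans ⟨fun h => ⟨Flat.stalkMap _ _, h⟩, fun h => h.2⟩

end model

/-- Openness for morphisms locally of finite presentation. -/
theorem isOpen_FG {X Y : Scheme.{u}} (f : X ⟶ Y) [LocallyOfFinitePresentation f] :
    IsOpen {x : X | FG f x} := by
  rw [isOpen_iff_forall_mem_open]
  intro x hx
  obtain ⟨V, hV, hxV, -⟩ := exists_isAffineOpen_mem_and_subset (U := (⊤ : Y.Opens)) (x := f x) trivial
  let W : X.Opens := ⟨{x | (f.stalkMap x).hom.Flat}, FlatLocus.isOpen_flat_locus f⟩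
  obtain ⟨U, hU, hxU, hUW⟩ := exists_isAffineOpen_mem_and_subset (U := W ⊓ f ⁻¹ᵁ V) (x := x) ⟨hx.1, hxV⟩
  have hUV : U ≤ f ⁻¹ᵁ V := fun z hz => (hUW hz).2
  have hsq : hU.fromSpec ≫ f = Spec.map (f.appLE V U hUV) ≫ hV.fromSpec := (hV.SpecMap_appLE_fromSpec f hU hUV).symm
  letI : Algebra Γ(Y, V) Γ(X, U) := (f.appLE V U hUV).hom.toAlgebra
  haveI : Algebra.FinitePresentation Γ(Y, V) Γ(X, U) := f.finitePresentation_appLE hV hU hUV
  have hW : ∀ q : Spec Γ(X, U), (f.stalkMap (hU.fromSpec q)).hom.Flat := fun q =>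
    (hUW (show hU.fromSpec q ∈ (U : Set X) from (Set.ext_iff.1 hU.range_fromSpec _).1 (Set.mem_range_self q))).1
  haveI : Flat (Spec.map (f.appLE V U hUV)) :=
    (Flat.iff_flat_stalkMap _).2 fun q => (flat_chart f _ _ _ hsq q).1 (hW q)
  haveI : Module.Flat Γ(Y, V) Γ(X, U) := (HasRingHomProperty.Spec_iff (P := @Flat)).1 ‹_›
  have hopen : IsOpen (hU.fromSpec ⁻¹' {x : X | FG f x}) := by
    convert! isOpen_G_of_flat (A := Γ(Y, V)) (B := Γ(X, U)) using 1
    ext q
    exact ⟨fun h => (G_chart f _ _ _ hsq q).1 h.2, fun h => ⟨hW q, (G_chart f _ _ _ hsq q).2 h⟩⟩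
  refine ⟨hU.fromSpec '' (hU.fromSpec ⁻¹' {x : X | FG f x}),
    Set.image_preimage_subset _ _, hU.fromSpec.isOpenEmbedding.isOpenMap _ hopen, ?_⟩
  obtain ⟨q, rfl⟩ : x ∈ Set.range hU.fromSpec := by rw [hU.range_fromSpec]; exact hxU
  exact ⟨q, hx, rfl⟩

end Groth.Agent.GeomPtInt5
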